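import Groth.Prelude.Def_MoreMor
import Groth.Agent.Lib.BaseChange.Irred
import Groth.Agent.Lib.GeomRed6.Fibres

/-!
# Numbers of geometric components do not change under extensions of separably closed fields
-/

universe u

open CategoryTheory Limits AlgebraicGeometry

set_option linter.style.haveILetI false

noncomputable section

namespace GrothLib.GeomComp6

variable {X Y : Scheme.{u}}

/-- The numbers of irreducible and of connected components. -/
def count (X : Scheme.{u}) : ℕ∞ × ℕ∞ :=
  ((irreducibleComponents ↥X).encard, ENat.card (_root_.ConnectedComponents ↥X))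

theorem count_of_geometricallyIrreducible {P Q : Scheme.{u}} (q : P ⟶ Q) [GeometricallyIrreducible q]
    (hq : IsOpenMap q) : count P = count Q := by
  haveI : GeometricallyConnected q := ⟨fun F _ y Z fst snd hp => by
    have := GeometricallyIrreducible.geometrically_irreducibleSpace (f := q) _ _ _ hp
    infer_instance⟩
  refine Prod.ext ?_ ?_
  · exact Set.encard_congr (q.irreducibleComponentsEquiv hq)
  · exact ENat.card_congr (q.connectedComponentsHomeomorph hq).toEquiv

theorem count_congr {P Q : Scheme.{u}} (e : P ≅ Q) : count P = count Q := by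
  haveI : GeometricallyIrreducible e.hom := by
    refine ⟨fun F _ y Z fst snd hp => ?_⟩
    haveI : IsIso snd := hp.isIso_snd_of_isIso
    exact (asIso snd).hom.homeomorph.irreducibleSpace_iff.mpr inferInstance
  exact count_of_geometricallyIrreducible e.hom e.hom.isOpenEmbedding.isOpenMap

/-- Extending a separably closed field does not change the counts. -/
theorem count_pullback_field (f : X ⟶ Y) {K L : Type u} [Field K] [IsSepClosed K] [Field L] (j : K →+* L)
    (t : Spec (CommRingCat.of K) ⟶ Y) :
    count (pullback f (Spec.map (CommRingCat.ofHom j) ≫ t)) = count (pullback f t) := by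
  letI := j.toAlgebra
  let s := Spec.map (CommRingCat.ofHom j)
  haveI : GeometricallyIrreducible s := GrothLib.BaseChange.geometricallyIrreducible_spec_of_isSepClosed K L
  haveI : UniversallyOpen s :=
    show UniversallyOpen (Spec.map (CommRingCat.ofHom (algebraMap K L))) from inferInstance
  rw [← count_congr (pullbackLeftPullbackSndIso f t s)]
  exact count_of_geometricallyIrreducible (pullback.fst (pullback.snd f t) s) (pullback.fst _ s).isOpenMap

/-- The geometric fibre as a pullback. -/
theorem count_geomFiber (f : X ⟶ Y) (y : Y) :
    (MoreMor.nGeomIrredComp f y, MoreMor.nGeomConnComp f y) = count (pullback f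
      (Spec.map (CommRingCat.ofHom (algebraMap (Y.residueField y) (SeparableClosure (Y.residueField y)))) ≫
        Y.fromSpecResidueField y)) :=
  count_congr (pullbackLeftPullbackSndIso f (Y.fromSpecResidueField y) _)

/-- The counts at a point can be computed at any separably closed field point over it. -/
theorem count_geomFiber_eq (f : X ⟶ Y) {L : Type u} [Field L] [IsSepClosed L]
    (t : Spec (CommRingCat.of L) ⟶ Y) {y : Y} (ht : GrothLib.GeomRed6.pt t = y) :
    (MoreMor.nGeomIrredComp f y, MoreMor.nGeomConnComp f y) = count (pullback f t) := by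
  subst ht
  obtain ⟨σ, hσ⟩ := GrothLib.GeomRed6.exists_factor t
  let y := GrothLib.GeomRed6.pt t
  obtain ⟨φ, rfl⟩ := Spec.map_surjective σ
  letI : Algebra (Y.residueField y) L := φ.hom.toAlgebra
  let κs := SeparableClosure (Y.residueField y)
  let j : κs →ₐ[Y.residueField y] L := IsSepClosed.lift
  rw [count_geomFiber, ← count_pullback_field f j.toRingHom]
  congr 2
  rw [← Category.assoc, ← Spec.map_comp, ← CommRingCat.ofHom_comp,
    show j.toRingHom.comp (algebraMap _ κs) = φ.hom from j.comp_algebraMap]
  exact hσ

theorem count_baseChange {X' Y' : Scheme.{u}} (f : X ⟶ Y) (f' : X' ⟶ Y') (g' : X' ⟶ X) (g : Y' ⟶ Y)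
    (hc : IsPullback g' f' f g) (y' : Y') :
    (MoreMor.nGeomIrredComp f' y', MoreMor.nGeomConnComp f' y') =
      (MoreMor.nGeomIrredComp f (g y'), MoreMor.nGeomConnComp f (g y')) := by
  let L := SeparableClosure (Y'.residueField y')
  let t : Spec (CommRingCat.of L) ⟶ Y' :=
    Spec.map (CommRingCat.ofHom (algebraMap (Y'.residueField y') L)) ≫ Y'.fromSpecResidueField y'
  have ht : GrothLib.GeomRed6.pt t = y' := Y'.fromSpecResidueField_apply y' _
  have ht' : GrothLib.GeomRed6.pt (t ≫ g) = g y' := congrArg g ht
  rw [count_geomFiber_eq f' t ht, count_geomFiber_eq f (t ≫ g) ht']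
  exact count_congr ((IsPullback.of_hasPullback f' t).paste_horiz hc).isoPullback

end GrothLib.GeomComp6
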