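import Groth.Agent.Lib.GeomComp6.Global
import Groth.Agent.Lib.LimDescend.FgSub
import Groth.Agent.Lib.Approx6.Stage
import Groth.Agent.Lib.GeomRed6.Locus

/-!
# The level sets of the geometric component counts are constructible
-/

universe u

open CategoryTheory Limits AlgebraicGeometry TopologicalSpace Set.Notation

set_option linter.style.haveILetI false

noncomputable section

namespace GrothLib.GeomComp6

variable {X Y : Scheme.{u}}

theorem isConstructible_geomCount_noetherian (f : X ⟶ Y) [NoetherianSpace Y] [LocallyOfFiniteType f]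
    [QuasiCompact f] {γ : Type} (h : ℕ∞ × ℕ∞ → γ) (c : γ) :
    Topology.IsConstructible {y | h (geomCount f y) = c} :=
  (GrothLib.NoethTop.constructible_function_of_forall (h := fun y => h (geomCount f y)) fun Z hZ hi => by
    obtain ⟨η, hη⟩ := QuasiSober.sober hi hZ
    obtain ⟨W, hW, hηW, hc⟩ := exists_geomCount_constant_subset f ⟨Z, hZ⟩ hη
    exact ⟨W, hW, ⟨η, hηW, hη.mem⟩, fun a ha b hb => by
      show h (geomCount f a) = h (geomCount f b)
      rw [hc a ha, hc b hb]⟩).1 c

theorem isConstructible_geomCount_Spec {A : Type u} [CommRing A] (f : X ⟶ Spec (CommRingCat.of A))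
    [LocallyOfFinitePresentation f] [QuasiCompact f] [QuasiSeparated f] {γ : Type} (h : ℕ∞ × ℕ∞ → γ) (c : γ) :
    Topology.IsConstructible {y | h (geomCount f y) = c} := by
  let f₁ : X ⟶ (GrothLib.LimDescend.fgCone A).pt := f
  haveI : LocallyOfFinitePresentation f₁ := ‹LocallyOfFinitePresentation f›
  haveI : QuasiCompact f₁ := ‹QuasiCompact f›
  haveI : QuasiSeparated f₁ := ‹QuasiSeparated f›
  obtain ⟨i, ⟨M⟩⟩ := GrothLib.LimDescend.exists_model (GrothLib.LimDescend.fgDiagram A)
    (GrothLib.LimDescend.fgCone A) (GrothLib.LimDescend.isLimitFgCone A) f₁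
  haveI : Algebra.FiniteType ℤ i.unop.1 := i.unop.1.fg_iff_finiteType.mp i.unop.2
  haveI : IsNoetherianRing i.unop.1 := Algebra.FiniteType.isNoetherianRing ℤ i.unop.1
  haveI : NoetherianSpace ↥((GrothLib.LimDescend.fgDiagram A).obj i) :=
    inferInstanceAs (NoetherianSpace (PrimeSpectrum i.unop.1))
  let π : Spec (CommRingCat.of A) ⟶ (GrothLib.LimDescend.fgDiagram A).obj i :=
    (GrothLib.LimDescend.fgCone A).π.app i
  have hpb : IsPullback M.proj f M.hom π := M.isPullback
  have hset : {y | h (geomCount f y) = c} = π ⁻¹' {p | h (geomCount M.hom p) = c} := Set.ext fun y => by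
    exact Iff.of_eq (congrArg (fun q => h q = c)
      (count_baseChange M.hom f M.proj π hpb y : geomCount f y = geomCount M.hom (π y)))
  haveI : IsAffineHom π := isAffineHom_of_isAffine _
  rw [hset]
  exact π.isConstructible_preimage (isConstructible_geomCount_noetherian M.hom h c)

theorem isLocallyConstructible_geomCount (f : X ⟶ Y) [LocallyOfFinitePresentation f] [QuasiCompact f]
    [QuasiSeparated f] {γ : Type} (h : ℕ∞ × ℕ∞ → γ) (c : γ) :
    Topology.IsLocallyConstructible {y | h (geomCount f y) = c} := by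
  intro y
  obtain ⟨_, ⟨(V : Y.Opens), hV, rfl⟩, hy, -⟩ := Y.isBasis_affineOpens.exists_subset_of_mem_open
    (Set.mem_univ y) isOpen_univ
  refine ⟨(V : Set Y), V.2.mem_nhds hy, V.2, ?_⟩
  let e := hV.isoSpec
  let f' := pullback.snd f (e.inv ≫ V.ι)
  haveI : LocallyOfFinitePresentation f' := MorphismProperty.pullback_snd f _ inferInstance
  haveI : QuasiCompact f' := MorphismProperty.pullback_snd f _ inferInstance
  haveI : QuasiSeparated f' := MorphismProperty.pullback_snd f _ inferInstance
  have hcon := isConstructible_geomCount_Spec (A := Γ(Y, V)) f' h c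
  have hset : ((V : Set Y) ↓∩ {y | h (geomCount f y) = c}) = e.hom ⁻¹' {p | h (geomCount f' p) = c} :=
    Set.ext fun s => by
      show h (geomCount f (V.ι s)) = c ↔ h (geomCount f' (e.hom s)) = c
      have h1 : geomCount f' (e.hom s) = geomCount f ((e.inv ≫ V.ι) (e.hom s)) :=
        count_baseChange f f' _ _ (IsPullback.of_hasPullback f _) (e.hom s)
      rw [h1, ← Scheme.Hom.comp_apply, Iso.hom_inv_id_assoc]
  rw [hset]
  exact e.hom.isConstructible_preimage hcon

/-- Noetherian approximation keeping the value of a function of the counts. -/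
theorem noetherian_approximation_geomCount {X S : Scheme.{u}} (f : X ⟶ S) [IsAffine X] [IsAffine S]
    [LocallyOfFinitePresentation f] (h : ℕ∞ × ℕ∞ → ℕ∞) (c : ℕ∞) (hf : ∀ s, h (geomCount f s) = c) :
    ∃ (X₀ S₀ : Scheme.{u}) (f₀ : X₀ ⟶ S₀) (g : S ⟶ S₀) (g' : X ⟶ X₀), IsAffine X₀ ∧ IsAffine S₀ ∧
      IsPullback g' f f₀ g ∧ Algebra.FiniteType ℤ Γ(S₀, ⊤) ∧ LocallyOfFiniteType f₀ ∧
        ∀ s₀, h (geomCount f₀ s₀) = c :=
  GrothLib.Approx6.noetherian_approximation_of_constructible (fun f s => h (geomCount f s) = c)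
    (fun hsq y => Iff.of_eq (congrArg (fun p => h p = c) (count_baseChange _ _ _ _ hsq y)))
    (fun A B _ _ _ _ _ => by
      haveI := GrothLib.Approx6.locallyOfFiniteType_map (A₀ := A) (B₀ := B)
      exact isConstructible_geomCount_noetherian _ h c)
    f hf

end GrothLib.GeomComp6
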