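import Groth.Agent.Lib.GeomComp6.Constant
import Groth.Agent.Lib.RedSub.Basic
import Mathlib.AlgebraicGeometry.Geometrically.Irreducible
import Mathlib.AlgebraicGeometry.Geometrically.Connected

/-!
# Geometric component counts on an open of an irreducible base
-/

universe u

open CategoryTheory Limits AlgebraicGeometry TopologicalSpace

set_option linter.style.haveILetI false

noncomputable section

namespace GrothLib.GeomComp6

variable {X Y : Scheme.{u}}

/-- The pair of counts at a point. -/
abbrev geomCount (f : X ⟶ Y) (y : Y) : ℕ∞ × ℕ∞ := (MoreMor.nGeomIrredComp f y, MoreMor.nGeomConnComp f y)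

theorem exists_geomCount_constant_integral (f : X ⟶ Y) [LocallyOfFiniteType f] [QuasiCompact f] [IsIntegral Y] :
    ∃ V : Y.Opens, (V : Set Y).Nonempty ∧ ∀ y ∈ V, geomCount f y = geomCount f (genericPoint Y) := by
  obtain ⟨_, ⟨(U : Y.Opens), hU, rfl⟩, hη, -⟩ := Y.isBasis_affineOpens.exists_subset_of_mem_open
    (Set.mem_univ (genericPoint Y)) isOpen_univ
  haveI : Nonempty U := ⟨⟨_, hη⟩⟩
  haveI : IsDomain Γ(Y, U) := inferInstance
  let A := Γ(Y, U)
  let f' := pullback.snd f hU.fromSpec
  haveI : LocallyOfFiniteType f' := MorphismProperty.pullback_snd f _ inferInstance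
  haveI : QuasiCompact f' := MorphismProperty.pullback_snd f _ inferInstance
  have hbc : ∀ p, geomCount f' p = geomCount f (hU.fromSpec p) := fun p =>
    count_baseChange f f' _ hU.fromSpec (IsPullback.of_hasPullback f hU.fromSpec) p
  have hgen : hU.fromSpec (genericPoint (Spec (CommRingCat.of A))) = genericPoint Y := by
    refine ((genericPoint_spec (Spec (CommRingCat.of A))).image hU.fromSpec.continuous).eq ?_
    rw [Set.image_univ, hU.range_fromSpec]
    rw [show closure (U : Set Y) = Set.univ from dense_iff_closure_eq.mp (U.2.dense ⟨_, hη⟩)]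
    exact genericPoint_spec Y
  let η₀ : PrimeSpectrum A := genericPoint (Spec (CommRingCat.of A))
  let Ω := AlgebraicClosure η₀.asIdeal.ResidueField
  have hker : ∀ (p : PrimeSpectrum A) (a : A),
      algebraMap A (AlgebraicClosure p.asIdeal.ResidueField) a = 0 ↔ a ∈ p.asIdeal := fun p a => by
    rw [IsScalarTower.algebraMap_apply A p.asIdeal.ResidueField (AlgebraicClosure p.asIdeal.ResidueField),
      map_eq_zero, Ideal.algebraMap_residueField_eq_zero]
  have hpt : ∀ p : PrimeSpectrum A,
      GrothLib.GeomRed6.pt (specMap A (AlgebraicClosure p.asIdeal.ResidueField)) = p := fun p =>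
    PrimeSpectrum.ext (Ideal.ext fun a => by
      show algebraMap A (AlgebraicClosure p.asIdeal.ResidueField) a ∈ IsLocalRing.maximalIdeal _ ↔ _
      rw [IsLocalRing.maximalIdeal_eq_bot, Ideal.mem_bot, hker])
  have hη₀ : η₀ = ⟨⊥, Ideal.isPrime_bot⟩ := genericPoint_Spec A
  have hinj : Function.Injective (algebraMap A Ω) := (injective_iff_map_eq_zero _).mpr fun a ha => by
    have := (hker η₀ a).mp ha
    rw [hη₀] at this
    exact this
  obtain ⟨g, hg, hnear⟩ := exists_count_constant_algebra Ω hinj f'
  refine ⟨⟨hU.fromSpec '' (PrimeSpectrum.basicOpen g : Set (PrimeSpectrum A)),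
    hU.fromSpec.isOpenEmbedding.isOpenMap _ (PrimeSpectrum.basicOpen g).2⟩,
    ⟨_, η₀, (show g ∉ η₀.asIdeal by rw [hη₀]; exact hg), rfl⟩, ?_⟩
  rintro _ ⟨p, hp, rfl⟩
  rw [← hbc, ← hgen, ← hbc]
  have h1 : geomCount f' p = _ := count_geomFiber_eq f' (specMap A (AlgebraicClosure (p : PrimeSpectrum A).asIdeal.ResidueField)) (hpt p)
  have h2 : geomCount f' η₀ = _ := count_geomFiber_eq f' (specMap A Ω) (hpt η₀)
  rw [h1]
  exact (hnear (AlgebraicClosure (p : PrimeSpectrum A).asIdeal.ResidueField) (fun h => hp ((hker p g).mp h))).trans h2.symm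

theorem exists_geomCount_constant_subset (f : X ⟶ Y) [LocallyOfFiniteType f] [QuasiCompact f] (Z : Closeds Y)
    {y : Y} (hy : IsGenericPoint y (Z : Set Y)) :
    ∃ W : Set Y, IsOpen W ∧ y ∈ W ∧ ∀ y' ∈ W ∩ Z, geomCount f y' = geomCount f y := by
  let i := GrothLib.FibreDim6.redSub Z
  have hrange : Set.range i = Z := GrothLib.FibreDim6.range_redSub Z
  haveI : IrreducibleSpace ↥(Scheme.IdealSheafData.vanishingIdeal Z).subscheme :=
    (isIrreducible_range_iff i i.isEmbedding).mp (hrange.symm ▸ hy.isIrreducible)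
  haveI := GrothLib.RedSub.isReduced_subscheme_vanishingIdeal Z
  haveI : IsIntegral (Scheme.IdealSheafData.vanishingIdeal Z).subscheme := isIntegral_of_irreducibleSpace_of_isReduced _
  let f' := pullback.snd f i
  haveI : LocallyOfFiniteType f' := MorphismProperty.pullback_snd f _ inferInstance
  haveI : QuasiCompact f' := MorphismProperty.pullback_snd f _ inferInstance
  obtain ⟨V, hV, hconst⟩ := exists_geomCount_constant_integral f'
  have hbc : ∀ p, geomCount f' p = geomCount f (i p) := fun p =>
    count_baseChange f f' _ i (IsPullback.of_hasPullback f i) p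
  have hgen : i (genericPoint _) = y := by
    have hg := (genericPoint_spec ↥(Scheme.IdealSheafData.vanishingIdeal Z).subscheme).image i.continuous
    rw [Set.image_univ, hrange, Z.isClosed.closure_eq] at hg
    exact hg.eq hy
  obtain ⟨W, hW, hWV⟩ := i.isClosedEmbedding.isInducing.isOpen_iff.mp V.2
  refine ⟨W, hW, hgen ▸ hWV.symm.subset (((genericPoint_spec _).mem_open_set_iff V.2).mpr (by simpa using hV)), ?_⟩
  rintro y' ⟨hy'W, hy'Z⟩
  obtain ⟨p, rfl⟩ := hrange.symm.subset hy'Z
  rw [← hbc, hconst p (hWV.subset hy'W), hbc, hgen]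

theorem exists_geomCount_constant (f : X ⟶ Y) [LocallyOfFiniteType f] [QuasiCompact f] [IrreducibleSpace Y] :
    ∃ V : Y.Opens, (V : Set Y).Nonempty ∧ ∀ y ∈ V, geomCount f y = geomCount f (genericPoint Y) := by
  obtain ⟨W, hW, hyW, h⟩ := exists_geomCount_constant_subset f (y := genericPoint Y)
    ⟨Set.univ, isClosed_univ⟩ (genericPoint_spec Y)
  exact ⟨⟨W, hW⟩, ⟨_, hyW⟩, fun y hy => h y ⟨hy, trivial⟩⟩

/-- Near a point on its closure. -/
theorem exists_geomCount_const_closure (f : X ⟶ Y) [LocallyOfFiniteType f] [QuasiCompact f] (y : Y) :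
    ∃ V : Set Y, V ⊆ closure {y} ∧ y ∈ V ∧ IsOpen (Subtype.val ⁻¹' V : Set (closure ({y} : Set Y))) ∧
      ∀ y' ∈ V, geomCount f y' = geomCount f y := by
  obtain ⟨W, hW, hyW, h⟩ := exists_geomCount_constant_subset f ⟨closure {y}, isClosed_closure⟩
    (isGenericPoint_closure (x := y))
  refine ⟨W ∩ closure {y}, Set.inter_subset_right, ⟨hyW, subset_closure rfl⟩, ?_, h⟩
  rw [show (Subtype.val ⁻¹' (W ∩ closure {y}) : Set (closure ({y} : Set Y))) = Subtype.val ⁻¹' W by ext; simp]
  exact hW.preimage continuous_subtype_val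

theorem encard_irreducibleComponents_eq_one_iff {W : Type u} [TopologicalSpace W] :
    (irreducibleComponents W).encard = 1 ↔ IrreducibleSpace W := by
  rw [Set.encard_eq_one]
  constructor
  · rintro ⟨C, hC⟩
    have hC' : C ∈ irreducibleComponents W := hC.symm.subset rfl
    have huniv : C = Set.univ := Set.eq_univ_of_forall fun w => by
      have : irreducibleComponent w ∈ irreducibleComponents W := irreducibleComponent_mem_irreducibleComponents w
      rw [hC] at this
      exact (Set.mem_singleton_iff.mp this) ▸ mem_irreducibleComponent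
    rw [irreducibleSpace_def, Set.top_eq_univ, ← huniv]
    exact hC'.1
  · intro h
    exact ⟨Set.univ, irreducibleComponents_eq_singleton⟩

theorem card_connectedComponents_eq_one_iff {W : Type u} [TopologicalSpace W] :
    ENat.card (_root_.ConnectedComponents W) = 1 ↔ ConnectedSpace W := by
  rw [ENat.card_eq_one_iff_unique, unique_iff_subsingleton_and_nonempty]
  constructor
  · rintro ⟨hs, ⟨c⟩⟩
    obtain ⟨w, rfl⟩ := _root_.ConnectedComponents.surjective_coe c
    refine connectedSpace_iff_connectedComponent.mpr ⟨w, Set.eq_univ_of_forall fun v => ?_⟩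
    exact _root_.ConnectedComponents.coe_eq_coe'.mp (hs.elim (_root_.ConnectedComponents.mk v) (_root_.ConnectedComponents.mk w))
  · intro h
    exact ⟨inferInstance, inferInstance⟩

/-- Both counts are checked at algebraically closed field points. -/
theorem forall_pullback_of_forall {Q : Scheme.{u} → Prop}
    (hsurj : ∀ {P P' : Scheme.{u}} (q : P ⟶ P'), Function.Surjective q → Q P → Q P') (f : X ⟶ Y)
    (h : ∀ (L : Type u) [Field L] [IsAlgClosed L] (t : Spec (CommRingCat.of L) ⟶ Y), Q (pullback f t))
    (K : Type u) [Field K] (t : Spec (CommRingCat.of K) ⟶ Y) {Z : Scheme.{u}} {fst : Z ⟶ X}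
    {snd : Z ⟶ Spec (CommRingCat.of K)} (hsq : IsPullback fst snd f t) : Q Z := by
  let L := AlgebraicClosure K
  let s := Spec.map (CommRingCat.ofHom (algebraMap K L))
  haveI : Surjective s := ⟨fun _ => ⟨IsLocalRing.closedPoint L, Subsingleton.elim (α := Spec (CommRingCat.of K)) _ _⟩⟩
  haveI : Surjective (pullback.fst (pullback.snd f t) s) := MorphismProperty.pullback_fst _ _ inferInstance
  let q : pullback f (s ≫ t) ⟶ Z :=
    (pullbackLeftPullbackSndIso f t s).inv ≫ pullback.fst (pullback.snd f t) s ≫ hsq.isoPullback.inv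
  haveI : Surjective q := inferInstance
  exact hsurj q q.surjective (h L (s ≫ t))

theorem geometricallyIrreducible_iff_count (f : X ⟶ Y) :
    GeometricallyIrreducible f ↔ ∀ y, MoreMor.nGeomIrredComp f y = 1 := by
  constructor
  · intro h y
    refine encard_irreducibleComponents_eq_one_iff.mpr ?_
    exact GeometricallyIrreducible.geometrically_irreducibleSpace (f := f.fiberToSpecResidueField y) _ _ _
      (IsPullback.of_hasPullback _ _)
  · intro h
    refine ⟨fun K _ t Z fst snd hsq => forall_pullback_of_forall (Q := fun P => IrreducibleSpace ↥P)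
      (fun q hq hP => hq.irreducibleSpace q.continuous) f (fun L _ _ s => ?_) K t hsq⟩
    have := congrArg Prod.fst (count_geomFiber_eq f s rfl)
    exact encard_irreducibleComponents_eq_one_iff.mp (this.symm.trans (h _))

theorem geometricallyConnected_iff_count (f : X ⟶ Y) :
    GeometricallyConnected f ↔ ∀ y, MoreMor.nGeomConnComp f y = 1 := by
  constructor
  · intro h y
    refine card_connectedComponents_eq_one_iff.mpr ?_
    exact GeometricallyConnected.geometrically_connectedSpace (f := f.fiberToSpecResidueField y) _ _ _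
      (IsPullback.of_hasPullback _ _)
  · intro h
    refine ⟨fun K _ t Z fst snd hsq => forall_pullback_of_forall (Q := fun P => ConnectedSpace ↥P)
      (fun q hq hP => hq.connectedSpace q.continuous) f (fun L _ _ s => ?_) K t hsq⟩
    have := congrArg Prod.snd (count_geomFiber_eq f s rfl)
    exact card_connectedComponents_eq_one_iff.mp (this.symm.trans (h _))

theorem count_morphismRestrict (f : X ⟶ Y) (V : Y.Opens) (s : V.toScheme) :
    geomCount (f ∣_ V) s = geomCount f (V.ι s) :=
  count_baseChange f (f ∣_ V) _ V.ι (isPullback_morphismRestrict f V).flip s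

end GrothLib.GeomComp6
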