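import Groth.Agent.Lib.GeomIrr6.Domain
import Groth.Agent.Lib.GeomRed6.Fibres
import Groth.Agent.Lib.FibreDim6.AvoidScheme
import Mathlib.AlgebraicGeometry.Morphisms.Flat

/-!
# Irreducible closed sets of the geometric generic fibre stay irreducible in nearby geometric fibres
-/

universe u

open CategoryTheory Limits AlgebraicGeometry TopologicalSpace
open scoped TensorProduct

set_option linter.style.haveILetI false

noncomputable section

namespace GrothLib.GeomComp6

/-- The point of `Spec A` given by an algebra. -/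
abbrev specMap (A F : Type u) [CommRing A] [CommRing F] [Algebra A F] :
    Spec (CommRingCat.of F) ⟶ Spec (CommRingCat.of A) :=
  Spec.map (CommRingCat.ofHom (algebraMap A F))

theorem pt_specMap_mem_basicOpen {A F : Type u} [CommRing A] [Field F] [Algebra A F] (g : A) :
    GrothLib.GeomRed6.pt (specMap A F) ∈ (PrimeSpectrum.basicOpen g : Set (PrimeSpectrum A)) ↔
      algebraMap A F g ≠ 0 := by
  show PrimeSpectrum.comap (algebraMap A F) (IsLocalRing.closedPoint F) ∈ PrimeSpectrum.basicOpen g ↔ _
  rw [PrimeSpectrum.mem_basicOpen, PrimeSpectrum.comap_asIdeal, Ideal.mem_comap]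
  show ¬ _ ∈ IsLocalRing.maximalIdeal F ↔ _
  rw [IsLocalRing.maximalIdeal_eq_bot, Ideal.mem_bot]

theorem genericPoint_Spec (A : Type u) [CommRing A] [IsDomain A] :
    genericPoint (Spec (CommRingCat.of A)) = (⟨⊥, Ideal.isPrime_bot⟩ : PrimeSpectrum A) :=
  genericPoint_eq_bot_of_affine (CommRingCat.of A)

theorem exists_basic {A : Type u} [CommRing A] [IsDomain A] (V : (Spec (CommRingCat.of A)).Opens)
    (hV : (V : Set (Spec (CommRingCat.of A))).Nonempty) :
    ∃ g : A, g ≠ 0 ∧ ∀ (F : Type u) [Field F] [Algebra A F], algebraMap A F g ≠ 0 →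
      GrothLib.GeomRed6.pt (specMap A F) ∈ V := by
  have hη : (⟨⊥, Ideal.isPrime_bot⟩ : PrimeSpectrum A) ∈ (V : Set (Spec (CommRingCat.of A))) := by
    rw [← genericPoint_Spec A]
    exact ((genericPoint_spec _).mem_open_set_iff V.2).mpr (by simpa using hV)
  obtain ⟨_, ⟨g, rfl⟩, hg, hsub⟩ :=
    PrimeSpectrum.isTopologicalBasis_basic_opens.exists_subset_of_mem_open hη V.2
  exact ⟨g, fun h => hg (by rw [h]; exact Ideal.zero_mem _),
    fun F _ _ hF => hsub ((pt_specMap_mem_basicOpen g).mpr hF)⟩

theorem pt_specMap_generic {A Ω : Type u} [CommRing A] [IsDomain A] [Field Ω] [Algebra A Ω]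
    (hinj : Function.Injective (algebraMap A Ω)) :
    GrothLib.GeomRed6.pt (specMap A Ω) = genericPoint (Spec (CommRingCat.of A)) := by
  rw [genericPoint_Spec]
  refine PrimeSpectrum.ext (Ideal.ext fun x => ?_)
  show algebraMap A Ω x ∈ IsLocalRing.maximalIdeal Ω ↔ _
  rw [IsLocalRing.maximalIdeal_eq_bot, Ideal.mem_bot, Ideal.mem_bot]
  exact ⟨fun h => hinj (h.trans (map_zero _).symm), fun h => by rw [h, map_zero]⟩

section piece

variable {X X' Y : Scheme.{u}} (f : X ⟶ Y) (j : X' ⟶ X) {T : Scheme.{u}} (t : T ⟶ Y)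

/-- The part of a base change over `X'`. -/
def pieceMap : pullback (j ≫ f) t ⟶ pullback f t :=
  pullback.map _ _ _ _ j (𝟙 T) (𝟙 Y) (Category.comp_id _) (by simp)

theorem isPullback_pieceMap :
    IsPullback (pieceMap f j t) (pullback.fst (j ≫ f) t) (pullback.fst f t) j := by
  refine IsPullback.of_right ?_ (pullback.lift_fst _ _ _) (IsPullback.of_hasPullback f t).flip
  rw [show pieceMap f j t ≫ pullback.snd f t = pullback.snd (j ≫ f) t from
    (pullback.lift_snd _ _ _).trans (Category.comp_id _)]
  exact (IsPullback.of_hasPullback (j ≫ f) t).flip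

theorem range_pieceMap : Set.range (pieceMap f j t) = pullback.fst f t ⁻¹' Set.range j := by
  ext w
  constructor
  · rintro ⟨v, rfl⟩
    exact ⟨pullback.fst (j ≫ f) t v, by
      rw [← Scheme.Hom.comp_apply, ← (isPullback_pieceMap f j t).w, Scheme.Hom.comp_apply]⟩
  · rintro ⟨x, hx⟩
    obtain ⟨v, hv, -⟩ := Scheme.exists_preimage_of_isPullback (isPullback_pieceMap f j t) w x hx.symm
    exact ⟨v, hv⟩

end piece

variable {X : Scheme.{u}}

theorem isIrreducible_range_iff {P Q : Scheme.{u}} (i : P ⟶ Q) (hi : Topology.IsEmbedding i) :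
    IsIrreducible (Set.range i) ↔ IrreducibleSpace P := by
  constructor
  · intro h
    haveI : IrreducibleSpace (Set.range i) := Subtype.irreducibleSpace h
    exact (Homeomorph.irreducibleSpace_iff hi.toHomeomorph).mpr inferInstance
  · intro h
    rw [← Set.image_univ]
    exact (IrreducibleSpace.isIrreducible_univ _).image _ i.continuous.continuousOn

/-- Generisations within a fibre lift to a base change by a field. -/
theorem exists_generization {Y : Scheme.{u}} (f : X ⟶ Y) {F : Type u} [Field F]
    (t : Spec (CommRingCat.of F) ⟶ Y) (w : ↥(pullback f t)) (a : X) (ha : a ⤳ pullback.fst f t w)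
    (hfa : f a = f (pullback.fst f t w)) : ∃ w', w' ⤳ w ∧ pullback.fst f t w' = a := by
  let y := GrothLib.GeomRed6.pt t
  obtain ⟨σ, hσ⟩ := GrothLib.GeomRed6.exists_factor t
  let π : pullback f t ⟶ f.fiber y :=
    pullback.lift (pullback.fst f t) (pullback.snd f t ≫ σ) (by rw [Category.assoc, hσ]; exact pullback.condition)
  have hπ : IsPullback π (pullback.snd f t) (f.fiberToSpecResidueField y) σ := by
    refine IsPullback.of_right ?_ (pullback.lift_snd _ _ _) (IsPullback.of_hasPullback f (Y.fromSpecResidueField y))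
    rw [show π ≫ pullback.fst f (Y.fromSpecResidueField y) = pullback.fst f t from pullback.lift_fst _ _ _, hσ]
    exact IsPullback.of_hasPullback f t
  have hπι : π ≫ f.fiberι y = pullback.fst f t := pullback.lift_fst _ _ _
  have : Flat σ := GrothLib.CurveLocus.flat_to_spec_field (k := Y.residueField y) σ
  haveI : Flat π := MorphismProperty.of_isPullback hπ.flip ‹Flat σ›
  have hy : f (pullback.fst f t w) = y := by
    rw [← Scheme.Hom.comp_apply, pullback.condition, Scheme.Hom.comp_apply]
    exact congrArg t (Subsingleton.elim (α := Spec (CommRingCat.of F)) _ _)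
  obtain ⟨z, hz⟩ := (f.range_fiberι y).symm.subset (show a ∈ f ⁻¹' {y} from hfa.trans hy)
  have hzw : z ⤳ π w := by
    rw [← (f.fiberι y).isEmbedding.isInducing.specializes_iff, hz, ← Scheme.Hom.comp_apply, hπι]
    exact ha
  obtain ⟨w', hw', rfl⟩ := Flat.generalizingMap π hzw
  exact ⟨w', hw', by rw [← hπι, Scheme.Hom.comp_apply, hz]⟩

theorem fst_mem_fiber {Y : Scheme.{u}} (f : X ⟶ Y) {F : Type u} [Field F]
    (t : Spec (CommRingCat.of F) ⟶ Y) (w : ↥(pullback f t)) :
    f (pullback.fst f t w) = GrothLib.GeomRed6.pt t := by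
  rw [← Scheme.Hom.comp_apply, pullback.condition, Scheme.Hom.comp_apply]
  exact congrArg t (Subsingleton.elim (α := Spec (CommRingCat.of F)) _ _)

theorem exists_over {Y : Scheme.{u}} (f : X ⟶ Y) {F : Type u} [Field F]
    (t : Spec (CommRingCat.of F) ⟶ Y) (x : X) (hx : f x = GrothLib.GeomRed6.pt t) :
    ∃ w : ↥(pullback f t), pullback.fst f t w = x := by
  obtain ⟨w, hw, -⟩ := Scheme.Pullback.exists_preimage_pullback (f := f) (g := t) x (IsLocalRing.closedPoint F) hx
  exact ⟨w, hw⟩

theorem irreducibleSpace_affine_iff (A B F : Type u) [CommRing A] [CommRing B] [Algebra A B] [CommRing F]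
    [Algebra A F] :
    IrreducibleSpace ↥(pullback (specMap A B) (specMap A F)) ↔ (nilradical (F ⊗[A] B)).IsPrime := by
  rw [← PrimeSpectrum.irreducibleSpace_iff_isPrime_nilradical]
  exact Homeomorph.irreducibleSpace_iff
    (pullbackSymmetry (specMap A B) (specMap A F) ≪≫ pullbackSpecIso A F B).hom.homeomorph

/-- Nearby geometric fibres of an irreducible scheme with irreducible geometric generic fibre are
irreducible. -/
theorem exists_irreducibleSpace_near {A Ω : Type u} [CommRing A] [IsDomain A] [Field Ω] [IsAlgClosed Ω]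
    [Algebra A Ω] (hinj : Function.Injective (algebraMap A Ω)) (f : X ⟶ Spec (CommRingCat.of A))
    [LocallyOfFiniteType f] [QuasiCompact f] [IrreducibleSpace X]
    (hgen : f (genericPoint X) = genericPoint (Spec (CommRingCat.of A)))
    [IrreducibleSpace ↥(pullback f (specMap A Ω))] :
    ∃ g : A, g ≠ 0 ∧ ∀ (F : Type u) [Field F] [IsAlgClosed F] [Algebra A F], algebraMap A F g ≠ 0 →
      IrreducibleSpace ↥(pullback f (specMap A F)) := by
  let x := genericPoint X
  obtain ⟨_, ⟨(W : X.Opens), hW, rfl⟩, hxW, -⟩ := X.isBasis_affineOpens.exists_subset_of_mem_open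
    (Set.mem_univ x) isOpen_univ
  obtain ⟨φ, hφ⟩ := Spec.map_surjective (hW.fromSpec ≫ f)
  letI : Algebra A Γ(X, W) := φ.hom.toAlgebra
  have hφ' : specMap A Γ(X, W) = hW.fromSpec ≫ f := hφ
  haveI : Algebra.FiniteType A Γ(X, W) := by
    have : LocallyOfFiniteType (Spec.map φ) := hφ ▸ inferInstance
    exact (HasRingHomProperty.Spec_iff (P := @LocallyOfFiniteType)).mp this
  have hpiece : ∀ (F : Type u) [Field F] [Algebra A F],
      IsIrreducible (pullback.fst f (specMap A F) ⁻¹' (W : Set X)) ↔ (nilradical (F ⊗[A] Γ(X, W))).IsPrime := by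
    intro F _ _
    haveI : IsOpenImmersion (pieceMap f hW.fromSpec (specMap A F)) :=
      MorphismProperty.of_isPullback (isPullback_pieceMap f hW.fromSpec (specMap A F)).flip inferInstance
    rw [← irreducibleSpace_affine_iff, show (W : Set X) = Set.range hW.fromSpec from hW.range_fromSpec.symm,
      ← range_pieceMap, isIrreducible_range_iff _ (Scheme.Hom.isEmbedding _)]
    exact Homeomorph.irreducibleSpace_iff (pullback.congrHom hφ'.symm rfl).hom.homeomorph
  have h₀ : (nilradical (Ω ⊗[A] Γ(X, W))).IsPrime := by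
    rw [← hpiece Ω]
    obtain ⟨w, hw⟩ := exists_over f (specMap A Ω) x (hgen.trans (pt_specMap_generic hinj).symm)
    exact ⟨⟨w, show pullback.fst f (specMap A Ω) w ∈ W by rw [hw]; exact hxW⟩,
      (PreirreducibleSpace.isPreirreducible_univ).open_subset
        (W.2.preimage (pullback.fst f (specMap A Ω)).continuous) (Set.subset_univ _)⟩
  obtain ⟨g₁, hg₁, h₁⟩ := GrothLib.GeomIrr6.exists_isPrime_nilradical_near A Γ(X, W) Ω hinj h₀
  obtain ⟨V, hV, havoid, -⟩ := GrothLib.FibreDim6.exists_avoid f x hgen (W : Set X)ᶜ W.2.isClosed_compl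
    (fun h => h hxW)
  obtain ⟨g₂, hg₂, h₂⟩ := exists_basic V hV
  refine ⟨g₁ * g₂, mul_ne_zero hg₁ hg₂, fun F _ _ _ hF => ?_⟩
  rw [map_mul] at hF
  let p := pullback.fst f (specMap A F)
  have hirr : IsIrreducible (p ⁻¹' (W : Set X)) := (hpiece F).mpr (h₁ F (left_ne_zero_of_mul hF))
  have hdense : closure (p ⁻¹' (W : Set X)) = Set.univ := Set.eq_univ_of_forall fun w => by
    have hfw : f (p w) = GrothLib.GeomRed6.pt (specMap A F) := fst_mem_fiber f _ w
    obtain ⟨z, -, hzw, hfz, hz⟩ := havoid (p w) ((genericPoint_spec X).specializes trivial)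
      (hfw ▸ h₂ F (right_ne_zero_of_mul hF))
    obtain ⟨w', hw', hpw'⟩ := exists_generization f (specMap A F) w z hzw hfz
    exact hw'.mem_closed isClosed_closure
      (subset_closure (show p w' ∈ (W : Set X) from hpw' ▸ not_not.mp hz))
  rw [irreducibleSpace_def, Set.top_eq_univ, ← hdense]
  exact hirr.closure

/-- **Key lemma**: a closed set irreducible in the geometric generic fibre is irreducible in nearby ones. -/
theorem exists_isIrreducible_near {A Ω : Type u} [CommRing A] [IsDomain A] [Field Ω] [IsAlgClosed Ω]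
    [Algebra A Ω] (hinj : Function.Injective (algebraMap A Ω)) (f : X ⟶ Spec (CommRingCat.of A))
    [LocallyOfFiniteType f] [QuasiCompact f] (x : X) (hx : f x = genericPoint (Spec (CommRingCat.of A)))
    (h : IsIrreducible (pullback.fst f (specMap A Ω) ⁻¹' closure {x})) :
    ∃ g : A, g ≠ 0 ∧ ∀ (F : Type u) [Field F] [IsAlgClosed F] [Algebra A F], algebraMap A F g ≠ 0 →
      IsIrreducible (pullback.fst f (specMap A F) ⁻¹' closure {x}) := by
  let Z : Closeds X := ⟨closure {x}, isClosed_closure⟩
  let i := GrothLib.FibreDim6.redSub Z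
  have hrange : Set.range i = closure {x} := GrothLib.FibreDim6.range_redSub Z
  have hiff : ∀ (F : Type u) [Field F] [Algebra A F],
      IsIrreducible (pullback.fst f (specMap A F) ⁻¹' closure {x}) ↔
        IrreducibleSpace ↥(pullback (i ≫ f) (specMap A F)) := by
    intro F _ _
    haveI : IsClosedImmersion (pieceMap f i (specMap A F)) :=
      MorphismProperty.of_isPullback (isPullback_pieceMap f i (specMap A F)).flip inferInstance
    rw [← hrange, ← range_pieceMap, isIrreducible_range_iff _ (Scheme.Hom.isEmbedding _)]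
  haveI : IrreducibleSpace ↥(Scheme.IdealSheafData.vanishingIdeal Z).subscheme :=
    (isIrreducible_range_iff i i.isEmbedding).mp (hrange.symm ▸ isIrreducible_singleton.closure)
  obtain ⟨x', hx'⟩ := hrange.symm.subset (subset_closure (Set.mem_singleton x))
  have hgen : (i ≫ f) (genericPoint _) = genericPoint (Spec (CommRingCat.of A)) := by
    have hg : IsGenericPoint (i (genericPoint ↥(Scheme.IdealSheafData.vanishingIdeal Z).subscheme)) (closure {x}) := by
      have := (genericPoint_spec ↥(Scheme.IdealSheafData.vanishingIdeal Z).subscheme).image i.continuous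
      rwa [Set.image_univ, hrange, closure_closure] at this
    rw [Scheme.Hom.comp_apply, hg.eq (isGenericPoint_closure (x := x)), hx]
  haveI := (hiff Ω).mp h
  obtain ⟨g, hg, hnear⟩ := exists_irreducibleSpace_near hinj (i ≫ f) hgen
  exact ⟨g, hg, fun F _ _ _ hF => (hiff F).mpr (hnear F hF)⟩

end GrothLib.GeomComp6
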