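import Groth.Agent.Lib.GeomComp6.Cover
import Groth.Agent.Lib.GeomComp6.Irred
import Groth.Agent.Lib.GeomComp6.BaseChange

/-!
# The numbers of geometric components are constant near the generic point
-/

universe u

open CategoryTheory Limits AlgebraicGeometry TopologicalSpace
open scoped TensorProduct

set_option linter.style.haveILetI false

noncomputable section

namespace GrothLib.GeomComp6

variable {X : Scheme.{u}}

/-- If the generic points of the geometric generic fibre are separated in `X`, the counts are constant near. -/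
theorem exists_count_of_separated {A Ω : Type u} [CommRing A] [IsDomain A] [Field Ω] [IsAlgClosed Ω]
    [Algebra A Ω] (hinj : Function.Injective (algebraMap A Ω)) (f : X ⟶ Spec (CommRingCat.of A))
    [LocallyOfFiniteType f] [QuasiCompact f]
    (hsep : ∀ C ∈ irreducibleComponents ↥(pullback f (specMap A Ω)),
      ∀ C' ∈ irreducibleComponents ↥(pullback f (specMap A Ω)), ∀ z z', IsGenericPoint z C → IsGenericPoint z' C' →
        pullback.fst f (specMap A Ω) z = pullback.fst f (specMap A Ω) z' → C = C') :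
    ∃ g : A, g ≠ 0 ∧ ∀ (F : Type u) [Field F] [IsAlgClosed F] [Algebra A F], algebraMap A F g ≠ 0 →
      count (pullback f (specMap A F)) = count (pullback f (specMap A Ω)) := by
  classical
  let η := genericPoint (Spec (CommRingCat.of A))
  let P₀ := pullback f (specMap A Ω)
  let p₀ := pullback.fst f (specMap A Ω)
  haveI : LocallyOfFiniteType (pullback.snd f (specMap A Ω)) := MorphismProperty.pullback_snd f _ inferInstance
  haveI : QuasiCompact (pullback.snd f (specMap A Ω)) := MorphismProperty.pullback_snd f _ inferInstance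
  haveI : IsLocallyNoetherian P₀ := LocallyOfFiniteType.isLocallyNoetherian (pullback.snd f (specMap A Ω))
  haveI : CompactSpace P₀ := QuasiCompact.compactSpace_of_compactSpace (pullback.snd f (specMap A Ω))
  haveI : IsNoetherian P₀ := {}
  let ι := irreducibleComponents ↥P₀
  haveI : Finite ι := (TopologicalSpace.NoetherianSpace.finite_irreducibleComponents (α := ↥P₀)).to_subtype
  choose z hz using fun C : ι => GrothLib.BaseChange.exists_generic C.2
  let x : ι → X := fun C => p₀ (z C)
  have hxη : ∀ C, f (x C) = η := fun C => (fst_mem_fiber f _ _).trans (pt_specMap_generic hinj)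
  have hcov₀ : ∀ w : ↥P₀, ∃ C : ι, z C ⤳ w := fun w => by
    obtain ⟨T, hT, hsub⟩ := exists_mem_irreducibleComponents_subset_of_isIrreducible _ (isIrreducible_singleton (x := w))
    exact ⟨⟨T, hT⟩, (hz ⟨T, hT⟩).specializes (hsub rfl)⟩
  have hmax : ∀ C, ∀ a, a ⤳ x C → f a = η → a = x C := fun C a ha hfa => by
    obtain ⟨w', hw', rfl⟩ := exists_generization f (specMap A Ω) (z C) a ha (hfa.trans (hxη C).symm)
    rw [GrothLib.BaseChange.eq_of_specializes_generic C.2 (hz C) hw']
  have hinjx : Function.Injective x := fun C C' h => Subtype.ext (hsep C C.2 C' C'.2 _ _ (hz C) (hz C') h)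
  have hD₀ : ∀ C : ι, p₀ ⁻¹' closure {x C} = (C : Set ↥P₀) := fun C => by
    refine Set.Subset.antisymm (fun w hw => ?_) fun w hw =>
      specializes_iff_mem_closure.mp (((hz C).specializes hw).map p₀.continuous)
    obtain ⟨w', hw', hpw'⟩ := exists_generization f (specMap A Ω) w (x C) (specializes_iff_mem_closure.mpr hw)
      ((hxη C).trans ((fst_mem_fiber f _ _).trans (pt_specMap_generic hinj)).symm)
    obtain ⟨C', hC'⟩ := hcov₀ w'
    have : C' = C := hinjx (hmax C _ (hpw' ▸ hC'.map p₀.continuous) (hxη C'))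
    subst this
    exact (hC'.trans hw').mem_closed (isClosed_of_mem_irreducibleComponents _ C'.2) (hz C').mem
  have hnsub : ∀ C C', x C ∈ closure {x C'} → C = C' := fun C C' h => by
    exact (hinjx (hmax C _ (specializes_iff_mem_closure.mpr h) (hxη C'))).symm
  -- irreducibility
  have h₁ : ∀ C : ι, ∃ g : A, g ≠ 0 ∧ ∀ (F : Type u) [Field F] [IsAlgClosed F] [Algebra A F], algebraMap A F g ≠ 0 →
      IsIrreducible (pullback.fst f (specMap A F) ⁻¹' closure {x C}) := fun C =>
    exists_isIrreducible_near hinj f (x C) (hxη C) (by rw [hD₀]; exact C.2.1)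
  choose g₁ hg₁ hirr using h₁
  -- no inclusions
  have h₂ : ∀ p : {p : ι × ι // p.1 ≠ p.2}, ∃ V : (Spec (CommRingCat.of A)).Opens,
      (V : Set (Spec (CommRingCat.of A))).Nonempty ∧ ∀ y ∈ V, ∃ w, x p.1.1 ⤳ w ∧ f w = y ∧ w ∉ closure {x p.1.2} := by
    rintro ⟨⟨C, C'⟩, hne⟩
    obtain ⟨V, hV, -, h⟩ := GrothLib.FibreDim6.exists_avoid f (x C) (hxη C) (closure {x C'}) isClosed_closure
      fun h => hne (hnsub C C' h)
    exact ⟨V, hV, h⟩
  choose V₂ hV₂ hsub using h₂
  -- cover
  obtain ⟨V₃, hV₃, hcov⟩ := GrothLib.FibreDim6.exists_closures_cover f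
    (fun C : ι => f.fiberι η ⁻¹' closure {x C}) (Set.eq_univ_of_forall fun v => by
      have hv : f (f.fiberι η v) = η := (f.range_fiberι η).subset ⟨v, rfl⟩
      obtain ⟨w, hw⟩ := exists_over f (specMap A Ω) (f.fiberι η v) (hv.trans (pt_specMap_generic hinj).symm)
      obtain ⟨C, hC⟩ := hcov₀ w
      exact Set.mem_iUnion.mpr ⟨C, show f.fiberι η v ∈ closure {x C} from
        hw ▸ specializes_iff_mem_closure.mp (hC.map p₀.continuous)⟩)
  -- intersections
  have h₄ := fun p : ι × ι => GrothLib.FibreDim6.exists_trace_nonempty_iff f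
    ⟨closure {x p.1} ∩ closure {x p.2}, isClosed_closure.inter isClosed_closure⟩
  choose V₄ hV₄ htrace using h₄
  obtain ⟨V, hV, hVle⟩ := GrothLib.FibreDim6.exists_open_inter
    (Y := Spec (CommRingCat.of A)) (Sum.elim V₂ (Sum.elim (fun _ : PUnit.{1} => V₃) V₄))
    (by rintro (p | _ | p) <;> [exact hV₂ p; exact hV₃; exact hV₄ p])
  obtain ⟨g₀, hg₀, hg₀V⟩ := exists_basic V hV
  haveI := Fintype.ofFinite ι
  refine ⟨g₀ * ∏ C, g₁ C, mul_ne_zero hg₀ (Finset.prod_ne_zero_iff.mpr fun C _ => hg₁ C), fun F _ _ _ hF => ?_⟩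
  rw [map_mul, map_prod] at hF
  have hy := hg₀V F (left_ne_zero_of_mul hF)
  let p := pullback.fst f (specMap A F)
  let y := GrothLib.GeomRed6.pt (specMap A F)
  refine card_eq_of_covers (D := fun C : ι => p ⁻¹' closure {x C}) (D' := fun C : ι => (C : Set ↥P₀))
    (fun C => isClosed_closure.preimage p.continuous)
    (fun C => hirr C F (Finset.prod_ne_zero_iff.mp (right_ne_zero_of_mul hF) C (Finset.mem_univ C)))
    (fun C C' hle => by_contra fun hne => ?_) (fun w => ?_)
    (fun C => isClosed_of_mem_irreducibleComponents _ C.2) (fun C => C.2.1)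
    (fun C C' hle => Subtype.ext (C.2.eq_of_le C'.2.1 hle)) (fun w => ?_) (fun C C' => ?_)
  · obtain ⟨a, hCa, hfa, ha⟩ := hsub ⟨(C, C'), hne⟩ y (hVle (Sum.inl _) hy)
    obtain ⟨w, rfl⟩ := exists_over f (specMap A F) a hfa
    exact ha (hle (specializes_iff_mem_closure.mp hCa))
  · obtain ⟨C, hC⟩ := hcov (p w) (show f (p w) ∈ V₃ from (fst_mem_fiber f _ w).symm ▸ hVle (Sum.inr (Sum.inl PUnit.unit)) hy)
    exact ⟨C, closure_minimal (Set.image_preimage_subset _ _) isClosed_closure hC⟩
  · obtain ⟨C, hC⟩ := hcov₀ w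
    exact ⟨C, hC.mem_closed (isClosed_of_mem_irreducibleComponents _ C.2) (hz C).mem⟩
  · have htr := htrace (C, C') y (hVle (Sum.inr (Sum.inr (C, C'))) hy)
    rw [← hD₀ C, ← hD₀ C', ← Set.preimage_inter, ← Set.preimage_inter]
    constructor
    · rintro ⟨w, hw⟩
      obtain ⟨a, ha, hfa⟩ := htr.mp ⟨p w, hw, fst_mem_fiber f _ w⟩
      obtain ⟨w', rfl⟩ := exists_over f (specMap A Ω) a (Eq.trans hfa (pt_specMap_generic hinj).symm)
      exact ⟨w', ha⟩
    · rintro ⟨w, hw⟩
      obtain ⟨a, ha, hfa⟩ := htr.mpr ⟨p₀ w, hw, (fst_mem_fiber f _ w).trans (pt_specMap_generic hinj)⟩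
      obtain ⟨w', rfl⟩ := exists_over f (specMap A F) a hfa
      exact ⟨w', ha⟩

section separate

variable {A Ω : Type u} [CommRing A] [Field Ω] [Algebra A Ω]

/-- The projection to a stage. -/
def stageMap (f : X ⟶ Spec (CommRingCat.of A)) (T : Subalgebra A Ω) :
    pullback f (specMap A Ω) ⟶ pullback f (specMap A (T : Type u)) :=
  pullback.map _ _ _ _ (𝟙 X) (specMap (T : Type u) Ω) (𝟙 _) (by simp) (by
    rw [Category.comp_id, ← Spec.map_comp, ← CommRingCat.ofHom_comp]
    rfl)

theorem stageMap_fst (f : X ⟶ Spec (CommRingCat.of A)) (T : Subalgebra A Ω) :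
    stageMap f T ≫ pullback.fst f (specMap A (T : Type u)) = pullback.fst f (specMap A Ω) :=
  (pullback.lift_fst _ _ _).trans (Category.comp_id _)

theorem stageMap_snd (f : X ⟶ Spec (CommRingCat.of A)) (T : Subalgebra A Ω) :
    stageMap f T ≫ pullback.snd f (specMap A (T : Type u)) =
      pullback.snd f (specMap A Ω) ≫ specMap (T : Type u) Ω :=
  pullback.lift_snd _ _ _

theorem pieceMap_stageMap {X' : Scheme.{u}} (f : X ⟶ Spec (CommRingCat.of A)) (j : X' ⟶ X) (T : Subalgebra A Ω) :
    pieceMap f j (specMap A Ω) ≫ stageMap f T = stageMap (j ≫ f) T ≫ pieceMap f j (specMap A (T : Type u)) := by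
  have h₁ : ∀ {Q : Scheme.{u}} (t : Q ⟶ Spec (CommRingCat.of A)),
      pieceMap f j t ≫ pullback.fst f t = pullback.fst (j ≫ f) t ≫ j := fun t => (isPullback_pieceMap f j t).w
  have h₂ : ∀ {Q : Scheme.{u}} (t : Q ⟶ Spec (CommRingCat.of A)),
      pieceMap f j t ≫ pullback.snd f t = pullback.snd (j ≫ f) t := fun t =>
    (pullback.lift_snd _ _ _).trans (Category.comp_id _)
  apply pullback.hom_ext
  · rw [Category.assoc, Category.assoc, stageMap_fst, h₁, h₁, ← Category.assoc, stageMap_fst]
  · rw [Category.assoc, Category.assoc, stageMap_snd, h₂, ← Category.assoc, h₂, stageMap_snd]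

theorem exists_stage_separate_affine (B : Type u) [CommRing B] [Algebra A B]
    (u u' : ↥(pullback (specMap A B) (specMap A Ω))) (h : u ≠ u') :
    ∃ T₁ : Subalgebra A Ω, T₁.FG ∧ ∀ T, T₁ ≤ T → stageMap (specMap A B) T u ≠ stageMap (specMap A B) T u' := by
  let e : ∀ (F : Type u) [CommRing F] [Algebra A F],
      pullback (specMap A B) (specMap A F) ≅ Spec (CommRingCat.of (F ⊗[A] B)) :=
    fun F _ _ => pullbackSymmetry _ _ ≪≫ pullbackSpecIso A F B
  let a : PrimeSpectrum (Ω ⊗[A] B) := (e Ω).hom u
  let a' : PrimeSpectrum (Ω ⊗[A] B) := (e Ω).hom u'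
  have haa : a ≠ a' := fun hh => h ((e Ω).hom.isOpenEmbedding.injective hh)
  obtain ⟨c, hc⟩ : ∃ c, ¬ (c ∈ a.asIdeal ↔ c ∈ a'.asIdeal) := by
    by_contra hh
    push Not at hh
    exact haa (PrimeSpectrum.ext (Ideal.ext hh))
  obtain ⟨T₁, hT₁, hc₁⟩ := GrothLib.Approx6.exists_stage_lift (A := Ω) (Q := B) {c}
  obtain ⟨c₁, hc₁⟩ := hc₁ c (Finset.mem_singleton_self c)
  refine ⟨T₁, hT₁, fun T hle heq => hc ?_⟩
  have hnat : (e Ω).inv ≫ stageMap (specMap A B) T =
      Spec.map (CommRingCat.ofHom (GrothLib.Approx6.toA B T).toRingHom) ≫ (e (T : Type u)).inv := by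
    apply pullback.hom_ext
    · simp only [e, Category.assoc, stageMap_fst, Iso.trans_inv, pullbackSymmetry_inv_comp_fst,
        pullbackSpecIso_inv_snd, ← Spec.map_comp, ← CommRingCat.ofHom_comp]
      refine congrArg (fun φ => Spec.map (CommRingCat.ofHom φ)) (RingHom.ext fun b => ?_)
      simp [GrothLib.Approx6.toA]
    · simp only [e, Category.assoc, stageMap_snd, Iso.trans_inv, pullbackSymmetry_inv_comp_snd,
        pullbackSymmetry_inv_comp_snd_assoc, pullbackSpecIso_inv_fst, pullbackSpecIso_inv_fst_assoc, ← Spec.map_comp,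
        ← CommRingCat.ofHom_comp]
      refine congrArg (fun φ => Spec.map (CommRingCat.ofHom φ)) (RingHom.ext fun s => ?_)
      simp [GrothLib.Approx6.toA]
  have hkey : ∀ v, (e (T : Type u)).hom (stageMap (specMap A B) T v) =
      PrimeSpectrum.comap (GrothLib.Approx6.toA B T).toRingHom ((e Ω).hom v) := fun v => by
    have h1 : (e Ω).hom ≫ Spec.map (CommRingCat.ofHom (GrothLib.Approx6.toA B T).toRingHom) =
        stageMap (specMap A B) T ≫ (e (T : Type u)).hom := by
      rw [← cancel_mono (e (T : Type u)).inv, Category.assoc, ← hnat, Iso.hom_inv_id_assoc, Category.assoc,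
        Iso.hom_inv_id, Category.comp_id]
    rw [← Scheme.Hom.comp_apply, ← h1, Scheme.Hom.comp_apply]
    rfl
  have h2 : PrimeSpectrum.comap (GrothLib.Approx6.toA B T).toRingHom a =
      PrimeSpectrum.comap (GrothLib.Approx6.toA B T).toRingHom a' :=
    (hkey u).symm.trans ((congrArg (e (T : Type u)).hom heq).trans (hkey u'))
  rw [← hc₁, ← GrothLib.Approx6.toA_mapQ B hle c₁]
  exact SetLike.ext_iff.mp (congrArg PrimeSpectrum.asIdeal h2) (GrothLib.Approx6.mapQ B hle c₁)

/-- Two points of the geometric generic fibre are separated at a finite stage. -/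
theorem exists_stage_separate (f : X ⟶ Spec (CommRingCat.of A)) (z z' : ↥(pullback f (specMap A Ω))) (h : z ≠ z') :
    ∃ T₁ : Subalgebra A Ω, T₁.FG ∧ ∀ T, T₁ ≤ T → stageMap f T z ≠ stageMap f T z' := by
  by_cases hx : pullback.fst f (specMap A Ω) z = pullback.fst f (specMap A Ω) z'
  swap
  · refine ⟨⊥, Subalgebra.fg_bot, fun T _ heq => hx ?_⟩
    rw [← stageMap_fst f T, Scheme.Hom.comp_apply, Scheme.Hom.comp_apply, heq]
  obtain ⟨_, ⟨(W : X.Opens), hW, rfl⟩, hxW, -⟩ := X.isBasis_affineOpens.exists_subset_of_mem_open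
    (Set.mem_univ (pullback.fst f (specMap A Ω) z)) isOpen_univ
  obtain ⟨φ, hφ⟩ := Spec.map_surjective (hW.fromSpec ≫ f)
  letI : Algebra A Γ(X, W) := φ.hom.toAlgebra
  have hφ' : specMap A Γ(X, W) = hW.fromSpec ≫ f := hφ
  have hmem : ∀ w, pullback.fst f (specMap A Ω) w = pullback.fst f (specMap A Ω) z →
      w ∈ Set.range (pieceMap f hW.fromSpec (specMap A Ω)) := fun w hw => by
    rw [range_pieceMap, hW.range_fromSpec]
    show pullback.fst f (specMap A Ω) w ∈ W
    rw [hw]
    exact hxW
  obtain ⟨u, rfl⟩ := hmem z rfl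
  obtain ⟨u', rfl⟩ := hmem z' hx.symm
  have hsep := exists_stage_separate_affine (A := A) (Ω := Ω) Γ(X, W)
  rw [hφ'] at hsep
  obtain ⟨T₁, hT₁, hT⟩ := hsep u u' fun h' => h (by rw [h'])
  refine ⟨T₁, hT₁, fun T hle heq => hT T hle ?_⟩
  haveI : IsOpenImmersion (pieceMap f hW.fromSpec (specMap A (T : Type u))) :=
    MorphismProperty.of_isPullback (isPullback_pieceMap f hW.fromSpec (specMap A (T : Type u))).flip inferInstance
  apply (pieceMap f hW.fromSpec (specMap A (T : Type u))).isOpenEmbedding.injective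
  rw [← Scheme.Hom.comp_apply, ← Scheme.Hom.comp_apply, ← pieceMap_stageMap, Scheme.Hom.comp_apply, Scheme.Hom.comp_apply]
  exact heq

end separate

/-- **The numbers of geometric components are constant near the generic point.** -/
theorem exists_count_constant_algebra {A : Type u} (Ω : Type u) [CommRing A] [IsDomain A] [Field Ω] [IsAlgClosed Ω]
    [Algebra A Ω] (hinj : Function.Injective (algebraMap A Ω)) (f : X ⟶ Spec (CommRingCat.of A))
    [LocallyOfFiniteType f] [QuasiCompact f] :
    ∃ g : A, g ≠ 0 ∧ ∀ (F : Type u) [Field F] [IsAlgClosed F] [Algebra A F], algebraMap A F g ≠ 0 →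
      count (pullback f (specMap A F)) = count (pullback f (specMap A Ω)) := by
  classical
  let P₀ := pullback f (specMap A Ω)
  haveI : LocallyOfFiniteType (pullback.snd f (specMap A Ω)) := MorphismProperty.pullback_snd f _ inferInstance
  haveI : QuasiCompact (pullback.snd f (specMap A Ω)) := MorphismProperty.pullback_snd f _ inferInstance
  haveI : IsLocallyNoetherian P₀ := LocallyOfFiniteType.isLocallyNoetherian (pullback.snd f (specMap A Ω))
  haveI : CompactSpace P₀ := QuasiCompact.compactSpace_of_compactSpace (pullback.snd f (specMap A Ω))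
  haveI : IsNoetherian P₀ := {}
  let ι := irreducibleComponents ↥P₀
  haveI : Finite ι := (TopologicalSpace.NoetherianSpace.finite_irreducibleComponents (α := ↥P₀)).to_subtype
  haveI := Fintype.ofFinite ι
  choose z hz using fun C : ι => GrothLib.BaseChange.exists_generic C.2
  have hzinj : ∀ C C' : ι, C ≠ C' → z C ≠ z C' := fun C C' hne heq =>
    hne (Subtype.ext ((hz C).def.symm.trans (by rw [heq]; exact (hz C').def)))
  choose T₁ hT₁ hsepT using fun p : {p : ι × ι // p.1 ≠ p.2} =>
    exists_stage_separate f (z p.1.1) (z p.1.2) (hzinj _ _ p.2)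
  let T := Finset.univ.sup T₁
  have hT : T.FG := Finset.sup_induction Subalgebra.fg_bot (fun _ h _ h' => h.sup h') fun p _ => hT₁ p
  haveI : Algebra.FiniteType A T := T.fg_iff_finiteType.mp hT
  let f' := pullback.snd f (specMap A (T : Type u))
  have hcomp : ∀ (F : Type u) [CommRing F] [Algebra A F] [Algebra T F] [IsScalarTower A T F],
      specMap (T : Type u) F ≫ specMap A (T : Type u) = specMap A F := fun F _ _ _ _ => by
    rw [← Spec.map_comp, ← CommRingCat.ofHom_comp, ← IsScalarTower.algebraMap_eq]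
  have hpb : IsPullback (stageMap f T) (pullback.snd f (specMap A Ω)) f' (specMap (T : Type u) Ω) := by
    refine IsPullback.of_right ?_ (stageMap_snd f T) (IsPullback.of_hasPullback f (specMap A (T : Type u)))
    rw [stageMap_fst, hcomp Ω]
    exact IsPullback.of_hasPullback f (specMap A Ω)
  haveI : LocallyOfFiniteType f' := MorphismProperty.pullback_snd f _ inferInstance
  haveI : QuasiCompact f' := MorphismProperty.pullback_snd f _ inferInstance
  let e := hpb.isoPullback
  obtain ⟨g', hg', hnear⟩ := exists_count_of_separated (A := (T : Type u)) (Ω := Ω) Subtype.val_injective f'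
    (fun C hC C' hC' w w' hw hw' heq => by
      let E := e.hom.homeomorph
      have hmem : ∀ {D : Set ↥(pullback f' (specMap (T : Type u) Ω))},
          D ∈ irreducibleComponents ↥(pullback f' (specMap (T : Type u) Ω)) → e.hom ⁻¹' D ∈ irreducibleComponents ↥P₀ :=
        fun {D} hD => preimage_mem_irreducibleComponents hD E.isOpenEmbedding
          (by rw [e.hom.surjective.range_eq, Set.inter_univ]; exact hD.1.nonempty)
      have hgp : ∀ {D : Set ↥(pullback f' (specMap (T : Type u) Ω))} {v}, IsGenericPoint v D →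
          IsGenericPoint (e.inv v) (e.hom ⁻¹' D) := fun {D v} hv => by
        have hpre : e.hom ⁻¹' D = e.inv '' D := by
          ext a
          constructor
          · intro ha
            exact ⟨e.hom a, ha, by rw [← Scheme.Hom.comp_apply, Iso.hom_inv_id]; rfl⟩
          · rintro ⟨b, hb, rfl⟩
            show e.hom (e.inv b) ∈ D
            rw [← Scheme.Hom.comp_apply, Iso.inv_hom_id]
            exact hb
        have := hv.image e.inv.continuous
        rwa [← hpre, (hv.isClosed.preimage e.hom.continuous).closure_eq] at this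
      let D : ι := ⟨_, hmem hC⟩
      let D' : ι := ⟨_, hmem hC'⟩
      have hDD : D = D' := by_contra fun hne => by
        refine hsepT ⟨(D, D'), hne⟩ T (Finset.le_sup (Finset.mem_univ _)) ?_
        rw [(hz D).eq (hgp hw), (hz D').eq (hgp hw'), ← Scheme.Hom.comp_apply, ← Scheme.Hom.comp_apply]
        simp only [e, IsPullback.isoPullback_inv_fst]
        exact heq
      exact (Set.preimage_eq_preimage e.hom.surjective).mp (congrArg Subtype.val hDD))
  obtain ⟨g, hg, hlift⟩ := GrothLib.GeomIrr6.exists_point_lift A T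
    (fun a b hab => hinj (congrArg Subtype.val hab)) g' hg'
  refine ⟨g, hg, fun F _ _ _ hF => ?_⟩
  obtain ⟨π, hπ⟩ := hlift F hF
  letI : Algebra T F := π.toRingHom.toAlgebra
  haveI : IsScalarTower A T F := IsScalarTower.of_algebraMap_eq fun a => (π.commutes a).symm
  rw [← count_congr (pullbackLeftPullbackSndIso f (specMap A (T : Type u)) (specMap (T : Type u) F) ≪≫
    pullback.congrHom rfl (hcomp F)), hnear F hπ]
  exact count_congr e.symm

end GrothLib.GeomComp6
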