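import Mathlib.Topology.Irreducible
import Mathlib.Topology.Connected.TotallyDisconnected
import Mathlib.Topology.Connected.Clopen
import Mathlib.Data.Set.Card
import Mathlib.SetTheory.Cardinal.Finite
import Mathlib.Logic.Relation

/-!
# Components of a space covered by finitely many irreducible closed sets
-/

universe u v

namespace GrothLib.GeomComp6

variable {W : Type u} [TopologicalSpace W] {ι : Type v} [Finite ι] {D : ι → Set W}

theorem exists_subset_of_isIrreducible (hD : ∀ i, IsClosed (D i)) (hcov : ∀ w, ∃ i, w ∈ D i) {s : Set W}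
    (hs : IsIrreducible s) : ∃ i, s ⊆ D i := by
  classical
  haveI := Fintype.ofFinite ι
  obtain ⟨z, hz, hsz⟩ := isIrreducible_iff_sUnion_isClosed.mp hs (Finset.univ.image D)
    (fun z hz => by obtain ⟨i, -, rfl⟩ := Finset.mem_image.mp hz; exact hD i)
    (fun w _ => by
      obtain ⟨i, hi⟩ := hcov w
      exact Set.mem_sUnion.mpr ⟨D i, Finset.mem_coe.mpr (Finset.mem_image_of_mem D (Finset.mem_univ i)), hi⟩)
  obtain ⟨i, -, rfl⟩ := Finset.mem_image.mp hz
  exact ⟨i, hsz⟩

theorem encard_irreducibleComponents_eq (hD : ∀ i, IsClosed (D i)) (hirr : ∀ i, IsIrreducible (D i))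
    (hne : ∀ i j, D i ⊆ D j → i = j) (hcov : ∀ w, ∃ i, w ∈ D i) :
    (irreducibleComponents W).encard = ENat.card ι := by
  have h : irreducibleComponents W = Set.range D := by
    ext s
    constructor
    · intro hs
      obtain ⟨i, hi⟩ := exists_subset_of_isIrreducible hD hcov hs.1
      exact ⟨i, (hi.antisymm (hs.2 (hirr i) hi)).symm⟩
    · rintro ⟨i, rfl⟩
      refine ⟨hirr i, fun s hs hle => ?_⟩
      obtain ⟨j, hj⟩ := exists_subset_of_isIrreducible hD hcov hs
      obtain rfl := hne i j (hle.trans hj)
      exact hj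
  rw [h, Set.encard]
  exact ENat.card_congr (Equiv.ofInjective D fun i j hij => hne i j hij.le).symm

theorem card_connectedComponents_eq (hD : ∀ i, IsClosed (D i)) (hirr : ∀ i, IsIrreducible (D i))
    (hcov : ∀ w, ∃ i, w ∈ D i) :
    ENat.card (_root_.ConnectedComponents W) = ENat.card (Quot fun i j => (D i ∩ D j).Nonempty) := by
  let R : ι → ι → Prop := fun i j => (D i ∩ D j).Nonempty
  have key : ∀ i w, w ∈ D i → (_root_.ConnectedComponents.mk w) = _root_.ConnectedComponents.mk (hirr i).nonempty.some :=
    fun i w hw => _root_.ConnectedComponents.coe_eq_coe'.mpr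
      ((hirr i).isConnected.isPreconnected.subset_connectedComponent (hirr i).nonempty.some_mem hw)
  let φ : Quot R → _root_.ConnectedComponents W := Quot.lift (fun i => _root_.ConnectedComponents.mk (hirr i).nonempty.some)
    (fun i j ⟨w, hi, hj⟩ => (key i w hi).symm.trans (key j w hj))
  refine (ENat.card_congr (Equiv.ofBijective φ ⟨?_, ?_⟩)).symm
  · intro a b hab
    induction a using Quot.ind with | mk i => ?_
    induction b using Quot.ind with | mk j => ?_
    -- the pieces in the class of `i` form a clopen set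
    let C : Set W := ⋃ k : {k // Quot.mk R k = Quot.mk R i}, D k.1
    have hC : IsClopen C := by
      refine ⟨isClosed_iUnion_of_finite fun k => hD _, ?_⟩
      have : C = (⋃ k : {k // Quot.mk R k ≠ Quot.mk R i}, D k.1)ᶜ := by
        ext w
        constructor
        · intro hw hw'
          obtain ⟨⟨k, hk⟩, hwk⟩ := Set.mem_iUnion.mp hw
          obtain ⟨⟨l, hl⟩, hwl⟩ := Set.mem_iUnion.mp hw'
          exact hl ((Quot.sound (r := R) ⟨w, hwl, hwk⟩).trans hk)
        · intro hw
          obtain ⟨k, hk⟩ := hcov w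
          by_cases hki : Quot.mk R k = Quot.mk R i
          · exact Set.mem_iUnion.mpr ⟨⟨k, hki⟩, hk⟩
          · exact absurd (Set.mem_iUnion.mpr ⟨⟨k, hki⟩, hk⟩) hw
      rw [this]
      exact (isClosed_iUnion_of_finite fun k => hD _).isOpen_compl
    have hi : (hirr i).nonempty.some ∈ C := Set.mem_iUnion.mpr ⟨⟨i, rfl⟩, (hirr i).nonempty.some_mem⟩
    have hj : (hirr j).nonempty.some ∈ C := hC.connectedComponent_subset hi (by
      rw [_root_.ConnectedComponents.coe_eq_coe.mp hab]
      exact mem_connectedComponent)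
    obtain ⟨⟨k, hk⟩, hwk⟩ := Set.mem_iUnion.mp hj
    exact hk.symm.trans (Quot.sound (r := R) ⟨_, hwk, (hirr j).nonempty.some_mem⟩)
  · intro c
    obtain ⟨w, rfl⟩ := _root_.ConnectedComponents.surjective_coe c
    obtain ⟨i, hi⟩ := hcov w
    exact ⟨Quot.mk R i, (key i w hi).symm⟩

/-- Two such covers with the same intersection pattern have the same numbers of components. -/
theorem card_eq_of_covers {W' : Type u} [TopologicalSpace W'] {D' : ι → Set W'}
    (hD : ∀ i, IsClosed (D i)) (hirr : ∀ i, IsIrreducible (D i)) (hne : ∀ i j, D i ⊆ D j → i = j)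
    (hcov : ∀ w, ∃ i, w ∈ D i) (hD' : ∀ i, IsClosed (D' i)) (hirr' : ∀ i, IsIrreducible (D' i))
    (hne' : ∀ i j, D' i ⊆ D' j → i = j) (hcov' : ∀ w, ∃ i, w ∈ D' i)
    (hR : ∀ i j, (D i ∩ D j).Nonempty ↔ (D' i ∩ D' j).Nonempty) :
    ((irreducibleComponents W).encard, ENat.card (_root_.ConnectedComponents W)) =
      ((irreducibleComponents W').encard, ENat.card (_root_.ConnectedComponents W')) := by
  rw [encard_irreducibleComponents_eq hD hirr hne hcov, encard_irreducibleComponents_eq hD' hirr' hne' hcov',
    card_connectedComponents_eq hD hirr hcov, card_connectedComponents_eq hD' hirr' hcov',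
    show (fun i j => (D i ∩ D j).Nonempty) = fun i j => (D' i ∩ D' j).Nonempty from
      funext fun i => funext fun j => propext (hR i j)]

end GrothLib.GeomComp6
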